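import Cfsg.Agent.H29.M22Facts.Outer

/-!
An element of order five of `Aut M22` has a centraliser of order ten, and in `M24` some element of
order five is squared by an element of order dividing four.
-/

set_option autoImplicit false

open Cfsg Subgroup

namespace H74.J4Five

open H29.M22 (A22 autEquiv five)

attribute [local irreducible] H25.M22.centList

/-- Some outer element commutes with the representative of order five. -/
theorem outer_five_ok : ((H94.search fun l Q => H94.commF five l Q && Nat.beq (H94.pap Q 0) 23).any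
    fun P => H29.M22.outB P && H94.commB five P) = true := by decide +kernel

/-- An element of order five fixing both special points, with its centraliser in the model. -/
theorem exists_five : ∃ f : ↥A22, orderOf f = 5 ∧
    Nat.card (centralizer ({f} : Set ↥A22)) = 10 := by
  classical
  haveI : Fact (Nat.Prime 5) := ⟨by norm_num⟩
  haveI : Finite ↥A22 := Nat.finite_of_card_ne_zero (by rw [H29.M22.card_A22]; norm_num)
  have h := H29.M22.five_ok
  simp only [Bool.and_eq_true, Bool.not_eq_true'] at h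
  obtain ⟨⟨⟨hm, hl⟩, h1⟩, h5⟩ := h
  obtain ⟨f, hf⟩ := H29.M22.exists_of_mem22B hm
  have hf5 : f.1 ^ 5 = 1 := by
    have := (hf.mul (hf.mul (hf.mul (hf.mul hf)))).eq_of_peq H94.reps_one h5
    simpa [pow_succ', mul_assoc] using this
  have hne : f.1 ≠ 1 := fun e => by
    rw [e] at hf
    rw [hf.peq_of_eq H94.reps_one] at h1
    simp at h1
  have hC : Nat.card (centralizer ({f} : Set H25.M22.G22)) ≤ 5 := by
    have key : ∀ m k : ℕ, Nat.ble m k = true → m ≤ k := fun m k h => Nat.le_of_ble_eq_true h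
    exact (H29.M22.card_cent_le hf).trans (key _ _ hl)
  let f' : ↥A22 := ⟨f.1, H29.M22.m22_le_A22 f.2⟩
  have hf'5 : orderOf f' = 5 := orderOf_eq_prime (Subtype.ext hf5)
    fun e => hne (congrArg Subtype.val e)
  refine ⟨f', hf'5, ?_⟩
  let N : Subgroup ↥A22 := Spor.M22.subgroupOf A22
  have hN : N.index = 2 := by
    have hcN : Nat.card N = 443520 := by
      rw [Nat.card_congr (subgroupOfEquivOfLe H29.M22.m22_le_A22).toEquiv]
      exact H25.M22.card22
    have := N.card_mul_index
    rw [hcN, H29.M22.card_A22] at this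
    omega
  haveI : N.Normal := normal_of_index_eq_two hN
  let K : Subgroup ↥A22 := centralizer ({f'} : Set ↥A22)
  have hle : Nat.card (N ⊓ K : Subgroup ↥A22) ≤ 5 := by
    refine le_trans ?_ hC
    refine Nat.card_le_card_of_injective
      (fun x => (⟨⟨x.1.1, x.2.1⟩, mem_centralizer_singleton_iff.2 (Subtype.ext
        (congrArg Subtype.val (mem_centralizer_singleton_iff.1 x.2.2) :))⟩ :
        centralizer ({f} : Set H25.M22.G22))) ?_
    intro x y e
    have h := congrArg (fun z => (z.1.1 : Equiv.Perm GolayPt)) e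
    exact Subtype.ext (Subtype.ext h)
  have hfm : f' ∈ N ⊓ K := ⟨f.2, mem_centralizer_singleton_iff.2 rfl⟩
  have hcNK : Nat.card (N ⊓ K : Subgroup ↥A22) = 5 :=
    le_antisymm hle (Nat.le_of_dvd Nat.card_pos (hf'5 ▸ orderOf_dvd_natCard _ hfm))
  have hrel : N.relIndex K = 2 := by
    have hdvd : N.relIndex K ∣ 2 := hN ▸ relIndex_dvd_index_of_normal N K
    rcases (Nat.dvd_prime Nat.prime_two).1 hdvd with h' | h'
    · exfalso
      obtain ⟨P, -, hP⟩ := List.any_eq_true.1 outer_five_ok
      rw [Bool.and_eq_true] at hP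
      obtain ⟨g, hg, hout⟩ := H29.M22.exists_of_outB hP.1
      have hc : g.1 * f.1 = f.1 * g.1 := (hg.mul hf).eq_of_peq (hf.mul hg) hP.2
      have hgK : g ∈ K := mem_centralizer_singleton_iff.2 (Subtype.ext hc)
      have hgN : g.1 ∈ Spor.M22 := (relIndex_eq_one.1 h') hgK
      rw [(H29.M22.mem_M22_iff.1 hgN).2.1] at hout
      exact Option.some_ne_none _ hout.symm
    · exact h'
  have := Subgroup.card_mul_index (N.subgroupOf K)
  rw [← inf_subgroupOf_right, Nat.card_congr (subgroupOfEquivOfLe inf_le_right).toEquiv, hcNK,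
    inf_subgroupOf_right] at this
  rw [show (N.subgroupOf K).index = 2 from hrel] at this
  exact this.symm

/-- The centraliser of an element only depends on the subgroup it generates. -/
theorem centralizer_zpowers {G : Type*} [Group G] (a : G) :
    centralizer (zpowers a : Set G) = centralizer ({a} : Set G) := by
  rw [zpowers_eq_closure, centralizer_closure]

/-- An element of order five of `Aut M22` has a centraliser of order ten. -/
theorem card_cent_five (s : MulAut ↥Cfsg.Spor.M22) (h : orderOf s = 5) :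
    Nat.card ↥(Subgroup.centralizer ({s} : Set (MulAut ↥Cfsg.Spor.M22))) = 10 := by
  haveI : Fact (Nat.Prime 5) := ⟨by norm_num⟩
  haveI : Finite ↥A22 := Nat.finite_of_card_ne_zero (by rw [H29.M22.card_A22]; norm_num)
  obtain ⟨f, hf, hfC⟩ := exists_five
  obtain ⟨a, rfl⟩ := autEquiv.surjective s
  rw [MulEquiv.orderOf_eq] at h
  have hfac : (Nat.card ↥A22).factorization 5 = 1 := by
    rw [H29.M22.card_A22, show (887040 : ℕ) = 5 ^ 1 * 177408 by norm_num,
      Nat.factorization_mul (by norm_num) (by norm_num),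
      Nat.Prime.factorization_pow (by norm_num)]
    simp [Nat.factorization_eq_zero_of_not_dvd (show ¬ 5 ∣ 177408 by norm_num)]
  let Pa : Sylow 5 ↥A22 := Sylow.ofCard (zpowers a) (by rw [Nat.card_zpowers, h, hfac, pow_one])
  let Pf : Sylow 5 ↥A22 := Sylow.ofCard (zpowers f) (by rw [Nat.card_zpowers, hf, hfac, pow_one])
  obtain ⟨c, hc⟩ := MulAction.exists_smul_eq ↥A22 Pa Pf
  have hm : c * a * c⁻¹ ∈ zpowers f := by
    have h1 : c * a * c⁻¹ ∈ ((c • Pa : Sylow 5 ↥A22) : Subgroup ↥A22) := by
      rw [Sylow.coe_subgroup_smul]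
      exact ⟨a, mem_zpowers a, by simp⟩
    rw [hc] at h1
    exact h1
  have e : zpowers (c * a * c⁻¹) = zpowers f := by
    refine Subgroup.eq_of_le_of_card_ge (zpowers_le.2 hm) ?_
    rw [Nat.card_zpowers, Nat.card_zpowers, hf, ← MulAut.conj_apply, MulEquiv.orderOf_eq, h]
  rw [← hfC, ← centralizer_zpowers f, ← e, centralizer_zpowers]
  refine Nat.card_congr ((autEquiv.symm.trans (MulAut.conj c)).toEquiv.subtypeEquiv fun x => ?_)
  rw [mem_centralizer_singleton_iff, mem_centralizer_singleton_iff]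
  obtain ⟨y, rfl⟩ := autEquiv.surjective x
  show autEquiv y * autEquiv a = autEquiv a * autEquiv y ↔ _
  have he : (autEquiv.symm.trans (MulAut.conj c)).toEquiv (autEquiv y) = MulAut.conj c y := by
    simp
  rw [he, ← MulAut.conj_apply, ← map_mul, ← map_mul, ← map_mul, ← map_mul,
    autEquiv.injective.eq_iff, (MulAut.conj c).injective.eq_iff]

/-- Half of the centraliser of an element of order five of `Aut M22` is inner. -/
theorem card_cent_five_inn (s : MulAut ↥Cfsg.Spor.M22) (h : orderOf s = 5) :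
    Nat.card ↥(Subgroup.centralizer ({s} : Set (MulAut ↥Cfsg.Spor.M22)) ⊓
      Cfsg.Inn ↥Cfsg.Spor.M22) = 5 := by
  classical
  haveI : Fact (Nat.Prime 5) := ⟨by norm_num⟩
  haveI : Fact (Nat.Prime 2) := ⟨by norm_num⟩
  haveI : Finite (MulAut ↥Spor.M22) := Nat.finite_of_card_ne_zero (by
    rw [← Nat.card_congr autEquiv.toEquiv, H29.M22.card_A22]; norm_num)
  have hC := card_cent_five s h
  have hI : (Cfsg.Inn ↥Spor.M22).index = 2 := H97.MOut.card_out_M22
  haveI : (Cfsg.Inn ↥Spor.M22).Normal := normal_of_index_eq_two hI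
  have hs : s ∈ Cfsg.Inn ↥Spor.M22 := by
    have e : s = (s ^ 2) ^ 3 := by
      rw [← pow_mul, show 2 * 3 = 5 + 1 from rfl, pow_succ, ← h, pow_orderOf_eq_one, one_mul]
    rw [e]
    exact pow_mem (sq_mem_of_index_two hI s) 3
  have hinj : Function.Injective (MulAut.conj : ↥Spor.M22 → MulAut ↥Spor.M22) := fun x y e => by
    have := autEquiv.injective
      ((H29.M22.autEquiv_inner x).trans (e.trans (H29.M22.autEquiv_inner y).symm))
    exact Subtype.ext (congrArg (fun z : ↥A22 => (z : Equiv.Perm GolayPt)) this)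
  have hnle : ¬ Subgroup.centralizer ({s} : Set (MulAut ↥Spor.M22)) ≤ Cfsg.Inn ↥Spor.M22 := by
    intro hle
    obtain ⟨t, ht⟩ := exists_prime_orderOf_dvd_card'
      (G := Subgroup.centralizer ({s} : Set (MulAut ↥Spor.M22))) 2 (hC ▸ (by norm_num))
    obtain ⟨b, hb⟩ := MonoidHom.mem_range.1 (hle t.2)
    obtain ⟨a, rfl⟩ := MonoidHom.mem_range.1 hs
    have hba : b * a = a * b := hinj (by
      rw [map_mul, map_mul, hb]
      exact mem_centralizer_singleton_iff.1 t.2)
    rw [orderOf_injective (MulAut.conj : ↥Spor.M22 →* MulAut ↥Spor.M22) hinj] at h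
    obtain ⟨f, hf, hfC⟩ := H29.M22.exists_five
    have hd := H29.M22.card_cent_prime H29.M22.fac_five hf hfC h hba
    rw [← Subgroup.orderOf_coe, ← hb,
      orderOf_injective (MulAut.conj : ↥Spor.M22 →* MulAut ↥Spor.M22) hinj] at ht
    rw [ht] at hd
    norm_num at hd
  have hrel : (Cfsg.Inn ↥Spor.M22).relIndex
      (Subgroup.centralizer ({s} : Set (MulAut ↥Spor.M22))) = 2 :=
    ((Nat.dvd_prime Nat.prime_two).1 (hI ▸ relIndex_dvd_index_of_normal _ _)).resolve_left
      fun e => hnle (relIndex_eq_one.1 e)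
  have := Subgroup.card_mul_index ((Cfsg.Inn ↥Spor.M22).subgroupOf
    (Subgroup.centralizer ({s} : Set (MulAut ↥Spor.M22))))
  rw [show Subgroup.index _ = 2 from hrel, hC, ← inf_subgroupOf_left,
    Nat.card_congr (subgroupOfEquivOfLe inf_le_left).toEquiv] at this
  omega

/-- Consistency of a prefix with `x * R = R2 * x`. -/
def normF (R R2 l Q : ℕ) : Bool :=
  (List.range (l + 1)).all fun i => Nat.blt l (H94.pap R i) ||
    Nat.beq (H94.pap Q (H94.pap R i)) (H94.pap R2 (H94.pap Q i))

/-- The test for an element squaring the representative. -/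
noncomputable def sqrB (P : ℕ) : Bool :=
  H94.memB P && H94.peq (H94.pmul P five) (H94.pmul (H94.pmul five five) P) &&
    H94.peq (H94.pmul P (H94.pmul P (H94.pmul P P))) H94.pone

theorem frobenius_ok :
    ((H94.search (normF five (H94.pmul five five))).any sqrB) = true := by decide +kernel

/-- In `M24` an element of order five is squared by an element whose order divides four. -/
theorem exists_frobenius : ∃ q h : Equiv.Perm Cfsg.GolayPt, q ∈ Cfsg.M24 ∧ h ∈ Cfsg.M24 ∧
    orderOf q = 5 ∧ h ^ 4 = 1 ∧ h * q * h⁻¹ = q ^ 2 := by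
  haveI : Fact (Nat.Prime 5) := ⟨by norm_num⟩
  have h := H29.M22.five_ok
  simp only [Bool.and_eq_true, Bool.not_eq_true'] at h
  obtain ⟨⟨⟨hm, -⟩, h1⟩, h5⟩ := h
  obtain ⟨f, hf⟩ := H29.M22.exists_of_mem22B hm
  obtain ⟨P, -, hP⟩ := List.any_eq_true.1 frobenius_ok
  simp only [sqrB, Bool.and_eq_true] at hP
  obtain ⟨⟨hPm, hPc⟩, hP4⟩ := hP
  obtain ⟨g, hg, hR⟩ := H94.exists_perm_of_memB hPm
  refine ⟨f.1, g, (H29.M22.mem_M22_iff.1 f.2).1, hg, orderOf_eq_prime ?_ fun e => ?_, ?_, ?_⟩
  · have := (hf.mul (hf.mul (hf.mul (hf.mul hf)))).eq_of_peq H94.reps_one h5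
    simpa [pow_succ', mul_assoc] using this
  · rw [e] at hf
    rw [hf.peq_of_eq H94.reps_one] at h1
    simp at h1
  · have := (hR.mul (hR.mul (hR.mul hR))).eq_of_peq H94.reps_one hP4
    simpa [pow_succ', mul_assoc] using this
  · rw [(hR.mul hf).eq_of_peq ((hf.mul hf).mul hR) hPc, mul_inv_cancel_right, pow_two]

end H74.J4Five
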